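import Groth.Agent.AVAmpleLib.RelMul
import Groth.Agent.WeilResLib.GrpGen
import Groth.Agent.S12442
import Groth.Prelude.Def_CGrpSh
import Mathlib.CategoryTheory.Sites.EpiMono
import Mathlib.CategoryTheory.Sites.Over

/-!
# Divisibility of the sheaf of points of an abelian scheme
-/

set_option autoImplicit false
set_option linter.style.haveILetI false
set_option backward.isDefEq.respectTransparency false

universe u

open CategoryTheory CategoryTheory.Limits MonoidalCategory CartesianMonoidalCategory AlgebraicGeometry Opposite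
open scoped MonObj

noncomputable section

namespace Groth.Agent.AbTFLib

attribute [-instance] CategoryTheory.Hom.commGroup

variable {S : Scheme.{u}}

theorem zsmul_pts (A : Over S) [GrpObj A] [IsCommMonObj A] (n : ℤ) {T : Over S} (y : T ⟶ A) :
    ((n • 𝟙 (CGrpSh.pts Scheme.fppfPrecoverage A)).hom.app (op T))
      (ULift.up (Additive.ofMul y) : (CGrpSh.pts Scheme.fppfPrecoverage A).obj.obj (op T)) =
      ULift.up (Additive.ofMul (y ≫ (𝟙 A ^ n))) := by
  refine ULift.ext _ _ (congrArg Additive.ofMul ?_)
  rw [GrpObj.comp_zpow, Category.comp_id]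
  rfl

/-- Multiplication by a nonzero integer is an epimorphism of fppf sheaves. -/
theorem epi_zsmul (A : Over S) [GrpObj A] [IsCommMonObj A] [Smooth A.hom] [IsProper A.hom]
    (hA : ∀ s : S, ConnectedSpace ↥(A.hom.fiber s)) (n : ℤ) (hn : n ≠ 0) :
    Epi (n • 𝟙 (CGrpSh.pts Scheme.fppfPrecoverage A)) := by
  haveI : GeometricallyConnected A.hom := Groth.Agent.WeilRes.geometricallyConnected_of_grp A hA
  haveI := AbSchLib.geometricallyReduced_of_smooth A.hom
  haveI := CubeConsLib.geometricallyIntegral_of_group A
  obtain ⟨h1, h2, h3, -⟩ := AVAmpleLib.zpow_rel A hn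
  let f := 𝟙 A ^ n
  haveI : LocallyOfFinitePresentation (f.left ≫ A.hom) := by rw [Over.w]; infer_instance
  haveI : LocallyOfFinitePresentation f.left := Groth.Agent.S12442.result f.left A.hom
  haveI := h2
  haveI := h3
  refine (Sheaf.isLocallySurjective_iff_epi' AddCommGrpCat.{u + 1} _).1 ⟨fun {T} x => ?_⟩
  let x' : T ⟶ A := x.down.toMul
  let W : Over S := Over.mk (pullback.fst x'.left f.left ≫ T.hom)
  let r : W ⟶ T := Over.homMk (pullback.fst x'.left f.left) rfl
  let y : W ⟶ A := Over.homMk (pullback.snd x'.left f.left) (by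
    show pullback.snd x'.left f.left ≫ A.hom = pullback.fst x'.left f.left ≫ T.hom
    rw [← Over.w f, ← pullback.condition_assoc, Over.w x'])
  have hcov : Sieve.ofArrows (fun _ : PUnit.{1} => W) (fun _ => r) ∈ QuotSh.J Scheme.fppfPrecoverage S T := by
    have hsurj : Surjective r.left :=
      MorphismProperty.pullback_fst (P := @Surjective) x'.left f.left h3
    have hflat : Flat r.left := MorphismProperty.pullback_fst (P := @Flat) x'.left f.left h2
    have hfp : LocallyOfFinitePresentation r.left :=
      MorphismProperty.pullback_fst (P := @LocallyOfFinitePresentation) x'.left f.left inferInstance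
    rw [GrothendieckTopology.mem_over_iff]
    refine (Scheme.fppfPrecoverage.toGrothendieck).superset_covering ?_ (Precoverage.generate_mem_toGrothendieck
      ((Scheme.ofArrows_mem_precoverage_iff (P := @Flat ⊓ @LocallyOfFinitePresentation)
        (f := fun _ : PUnit.{1} => r.left)).2
        ⟨fun z => ⟨⟨⟩, hsurj.surj z⟩, fun _ => ⟨hflat, hfp⟩⟩))
    rw [Sieve.generate_le_iff]
    rintro _ _ ⟨⟩
    exact (Sieve.overEquiv_iff _ _).2 (Sieve.ofArrows_mk (fun _ : PUnit.{1} => W) (fun _ => r) PUnit.unit)
  refine GrothendieckTopology.superset_covering _ ?_ hcov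
  rw [Sieve.ofArrows, Sieve.generate_le_iff]
  rintro _ _ ⟨⟩
  refine ⟨ULift.up (Additive.ofMul y), ?_⟩
  refine (zsmul_pts A n y).trans (ULift.ext _ _ (congrArg Additive.ofMul ?_))
  show y ≫ f = r ≫ x'
  exact Over.OverMorphism.ext pullback.condition.symm

end Groth.Agent.AbTFLib
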